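import Cfsg.Agent.Lib.Helper35.J1POrd.U0.Data

set_option Elab.async false

namespace Cfsg.Agent.Lib.Helper35.J1POrd.U0

open Cfsg.Agent.Lib.Helper35

theorem s0c0 : allBelow (fun k => fs0 (Nat.add (Nat.succ 0) k)) 2571 = true := by decide +kernel
theorem s0u0 : ∀ v, 1 ≤ v → v ≤ 2571 → fs0 v = true := slots_step fs0 0 2571 2571 (slots_zero fs0) s0c0 rfl
theorem s0c1 : allBelow (fun k => fs0 (Nat.add (Nat.succ 2571) k)) 2503 = true := by decide +kernel
theorem s0u1 : ∀ v, 1 ≤ v → v ≤ 5074 → fs0 v = true := slots_step fs0 2571 2503 5074 s0u0 s0c1 rfl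
theorem s0c2 : allBelow (fun k => fs0 (Nat.add (Nat.succ 5074) k)) 2472 = true := by decide +kernel
theorem s0u2 : ∀ v, 1 ≤ v → v ≤ 7546 → fs0 v = true := slots_step fs0 5074 2472 7546 s0u1 s0c2 rfl
theorem s0c3 : allBelow (fun k => fs0 (Nat.add (Nat.succ 7546) k)) 2521 = true := by decide +kernel
theorem s0u3 : ∀ v, 1 ≤ v → v ≤ 10067 → fs0 v = true := slots_step fs0 7546 2521 10067 s0u2 s0c3 rfl
theorem s0c4 : allBelow (fun k => fs0 (Nat.add (Nat.succ 10067) k)) 2239 = true := by decide +kernel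
theorem s0u4 : ∀ v, 1 ≤ v → v ≤ 12306 → fs0 v = true := slots_step fs0 10067 2239 12306 s0u3 s0c4 rfl
theorem s0c5 : allBelow (fun k => fs0 (Nat.add (Nat.succ 12306) k)) 2591 = true := by decide +kernel
theorem s0u5 : ∀ v, 1 ≤ v → v ≤ 14897 → fs0 v = true := slots_step fs0 12306 2591 14897 s0u4 s0c5 rfl
theorem s0c6 : allBelow (fun k => fs0 (Nat.add (Nat.succ 14897) k)) 1734 = true := by decide +kernel
theorem s0u6 : ∀ v, 1 ≤ v → v ≤ 16631 → fs0 v = true := slots_step fs0 14897 1734 16631 s0u5 s0c6 rfl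
theorem s0c7 : allBelow (fun k => fs0 (Nat.add (Nat.succ 16631) k)) 1903 = true := by decide +kernel
theorem s0u7 : ∀ v, 1 ≤ v → v ≤ 18534 → fs0 v = true := slots_step fs0 16631 1903 18534 s0u6 s0c7 rfl
theorem s0c8 : allBelow (fun k => fs0 (Nat.add (Nat.succ 18534) k)) 1928 = true := by decide +kernel
theorem s0u8 : ∀ v, 1 ≤ v → v ≤ 20462 → fs0 v = true := slots_step fs0 18534 1928 20462 s0u7 s0c8 rfl
theorem s0c9 : allBelow (fun k => fs0 (Nat.add (Nat.succ 20462) k)) 1024 = true := by decide +kernel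
theorem s0u9 : ∀ v, 1 ≤ v → v ≤ 21486 → fs0 v = true := slots_step fs0 20462 1024 21486 s0u8 s0c9 rfl
theorem s0c10 : allBelow (fun k => fs0 (Nat.add (Nat.succ 21486) k)) 2154 = true := by decide +kernel
theorem s0u10 : ∀ v, 1 ≤ v → v ≤ 23640 → fs0 v = true := slots_step fs0 21486 2154 23640 s0u9 s0c10 rfl
theorem s0c11 : allBelow (fun k => fs0 (Nat.add (Nat.succ 23640) k)) 1583 = true := by decide +kernel
theorem s0u11 : ∀ v, 1 ≤ v → v ≤ 25223 → fs0 v = true := slots_step fs0 23640 1583 25223 s0u10 s0c11 rfl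
theorem s0c12 : allBelow (fun k => fs0 (Nat.add (Nat.succ 25223) k)) 1082 = true := by decide +kernel
theorem s0u12 : ∀ v, 1 ≤ v → v ≤ 26305 → fs0 v = true := slots_step fs0 25223 1082 26305 s0u11 s0c12 rfl
theorem s1c0 : allBelow (fun k => fs1 (Nat.add (Nat.succ 0) k)) 2732 = true := by decide +kernel
theorem s1u0 : ∀ v, 1 ≤ v → v ≤ 2732 → fs1 v = true := slots_step fs1 0 2732 2732 (slots_zero fs1) s1c0 rfl
theorem s1c1 : allBelow (fun k => fs1 (Nat.add (Nat.succ 2732) k)) 2677 = true := by decide +kernel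
theorem s1u1 : ∀ v, 1 ≤ v → v ≤ 5409 → fs1 v = true := slots_step fs1 2732 2677 5409 s1u0 s1c1 rfl
theorem s1c2 : allBelow (fun k => fs1 (Nat.add (Nat.succ 5409) k)) 2526 = true := by decide +kernel
theorem s1u2 : ∀ v, 1 ≤ v → v ≤ 7935 → fs1 v = true := slots_step fs1 5409 2526 7935 s1u1 s1c2 rfl
theorem s1c3 : allBelow (fun k => fs1 (Nat.add (Nat.succ 7935) k)) 2699 = true := by decide +kernel
theorem s1u3 : ∀ v, 1 ≤ v → v ≤ 10634 → fs1 v = true := slots_step fs1 7935 2699 10634 s1u2 s1c3 rfl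
theorem s1c4 : allBelow (fun k => fs1 (Nat.add (Nat.succ 10634) k)) 2593 = true := by decide +kernel
theorem s1u4 : ∀ v, 1 ≤ v → v ≤ 13227 → fs1 v = true := slots_step fs1 10634 2593 13227 s1u3 s1c4 rfl
theorem s1c5 : allBelow (fun k => fs1 (Nat.add (Nat.succ 13227) k)) 2470 = true := by decide +kernel
theorem s1u5 : ∀ v, 1 ≤ v → v ≤ 15697 → fs1 v = true := slots_step fs1 13227 2470 15697 s1u4 s1c5 rfl
theorem s1c6 : allBelow (fun k => fs1 (Nat.add (Nat.succ 15697) k)) 2581 = true := by decide +kernel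
theorem s1u6 : ∀ v, 1 ≤ v → v ≤ 18278 → fs1 v = true := slots_step fs1 15697 2581 18278 s1u5 s1c6 rfl
theorem s1c7 : allBelow (fun k => fs1 (Nat.add (Nat.succ 18278) k)) 2016 = true := by decide +kernel
theorem s1u7 : ∀ v, 1 ≤ v → v ≤ 20294 → fs1 v = true := slots_step fs1 18278 2016 20294 s1u6 s1c7 rfl
theorem s1c8 : allBelow (fun k => fs1 (Nat.add (Nat.succ 20294) k)) 2241 = true := by decide +kernel
theorem s1u8 : ∀ v, 1 ≤ v → v ≤ 22535 → fs1 v = true := slots_step fs1 20294 2241 22535 s1u7 s1c8 rfl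
theorem s1c9 : allBelow (fun k => fs1 (Nat.add (Nat.succ 22535) k)) 1890 = true := by decide +kernel
theorem s1u9 : ∀ v, 1 ≤ v → v ≤ 24425 → fs1 v = true := slots_step fs1 22535 1890 24425 s1u8 s1c9 rfl
theorem s1c10 : allBelow (fun k => fs1 (Nat.add (Nat.succ 24425) k)) 1622 = true := by decide +kernel
theorem s1u10 : ∀ v, 1 ≤ v → v ≤ 26047 → fs1 v = true := slots_step fs1 24425 1622 26047 s1u9 s1c10 rfl
theorem s1c11 : allBelow (fun k => fs1 (Nat.add (Nat.succ 26047) k)) 258 = true := by decide +kernel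
theorem s1u11 : ∀ v, 1 ≤ v → v ≤ 26305 → fs1 v = true := slots_step fs1 26047 258 26305 s1u10 s1c11 rfl
theorem s2c0 : allBelow (fun k => fs2 (Nat.add (Nat.succ 0) k)) 2694 = true := by decide +kernel
theorem s2u0 : ∀ v, 1 ≤ v → v ≤ 2694 → fs2 v = true := slots_step fs2 0 2694 2694 (slots_zero fs2) s2c0 rfl
theorem s2c1 : allBelow (fun k => fs2 (Nat.add (Nat.succ 2694) k)) 2563 = true := by decide +kernel
theorem s2u1 : ∀ v, 1 ≤ v → v ≤ 5257 → fs2 v = true := slots_step fs2 2694 2563 5257 s2u0 s2c1 rfl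
theorem s2c2 : allBelow (fun k => fs2 (Nat.add (Nat.succ 5257) k)) 2488 = true := by decide +kernel
theorem s2u2 : ∀ v, 1 ≤ v → v ≤ 7745 → fs2 v = true := slots_step fs2 5257 2488 7745 s2u1 s2c2 rfl
theorem s2c3 : allBelow (fun k => fs2 (Nat.add (Nat.succ 7745) k)) 2648 = true := by decide +kernel
theorem s2u3 : ∀ v, 1 ≤ v → v ≤ 10393 → fs2 v = true := slots_step fs2 7745 2648 10393 s2u2 s2c3 rfl
theorem s2c4 : allBelow (fun k => fs2 (Nat.add (Nat.succ 10393) k)) 2478 = true := by decide +kernel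
theorem s2u4 : ∀ v, 1 ≤ v → v ≤ 12871 → fs2 v = true := slots_step fs2 10393 2478 12871 s2u3 s2c4 rfl
theorem s2c5 : allBelow (fun k => fs2 (Nat.add (Nat.succ 12871) k)) 2548 = true := by decide +kernel
theorem s2u5 : ∀ v, 1 ≤ v → v ≤ 15419 → fs2 v = true := slots_step fs2 12871 2548 15419 s2u4 s2c5 rfl
theorem s2c6 : allBelow (fun k => fs2 (Nat.add (Nat.succ 15419) k)) 2551 = true := by decide +kernel
theorem s2u6 : ∀ v, 1 ≤ v → v ≤ 17970 → fs2 v = true := slots_step fs2 15419 2551 17970 s2u5 s2c6 rfl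
theorem s2c7 : allBelow (fun k => fs2 (Nat.add (Nat.succ 17970) k)) 2224 = true := by decide +kernel
theorem s2u7 : ∀ v, 1 ≤ v → v ≤ 20194 → fs2 v = true := slots_step fs2 17970 2224 20194 s2u6 s2c7 rfl
theorem s2c8 : allBelow (fun k => fs2 (Nat.add (Nat.succ 20194) k)) 2156 = true := by decide +kernel
theorem s2u8 : ∀ v, 1 ≤ v → v ≤ 22350 → fs2 v = true := slots_step fs2 20194 2156 22350 s2u7 s2c8 rfl
theorem s2c9 : allBelow (fun k => fs2 (Nat.add (Nat.succ 22350) k)) 1592 = true := by decide +kernel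
theorem s2u9 : ∀ v, 1 ≤ v → v ≤ 23942 → fs2 v = true := slots_step fs2 22350 1592 23942 s2u8 s2c9 rfl
theorem s2c10 : allBelow (fun k => fs2 (Nat.add (Nat.succ 23942) k)) 1627 = true := by decide +kernel
theorem s2u10 : ∀ v, 1 ≤ v → v ≤ 25569 → fs2 v = true := slots_step fs2 23942 1627 25569 s2u9 s2c10 rfl
theorem s2c11 : allBelow (fun k => fs2 (Nat.add (Nat.succ 25569) k)) 736 = true := by decide +kernel
theorem s2u11 : ∀ v, 1 ≤ v → v ≤ 26305 → fs2 v = true := slots_step fs2 25569 736 26305 s2u10 s2c11 rfl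
theorem s3c0 : allBelow (fun k => fs3 (Nat.add (Nat.succ 0) k)) 6559 = true := by decide +kernel
theorem s3u0 : ∀ v, 1 ≤ v → v ≤ 6559 → fs3 v = true := slots_step fs3 0 6559 6559 (slots_zero fs3) s3c0 rfl
theorem s3c1 : allBelow (fun k => fs3 (Nat.add (Nat.succ 6559) k)) 5660 = true := by decide +kernel
theorem s3u1 : ∀ v, 1 ≤ v → v ≤ 12219 → fs3 v = true := slots_step fs3 6559 5660 12219 s3u0 s3c1 rfl
theorem s3c2 : allBelow (fun k => fs3 (Nat.add (Nat.succ 12219) k)) 3008 = true := by decide +kernel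
theorem s3u2 : ∀ v, 1 ≤ v → v ≤ 15227 → fs3 v = true := slots_step fs3 12219 3008 15227 s3u1 s3c2 rfl
theorem s3c3 : allBelow (fun k => fs3 (Nat.add (Nat.succ 15227) k)) 2218 = true := by decide +kernel
theorem s3u3 : ∀ v, 1 ≤ v → v ≤ 17445 → fs3 v = true := slots_step fs3 15227 2218 17445 s3u2 s3c3 rfl
theorem s3c4 : allBelow (fun k => fs3 (Nat.add (Nat.succ 17445) k)) 5872 = true := by decide +kernel
theorem s3u4 : ∀ v, 1 ≤ v → v ≤ 23317 → fs3 v = true := slots_step fs3 17445 5872 23317 s3u3 s3c4 rfl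
theorem s3c5 : allBelow (fun k => fs3 (Nat.add (Nat.succ 23317) k)) 2988 = true := by decide +kernel
theorem s3u5 : ∀ v, 1 ≤ v → v ≤ 26305 → fs3 v = true := slots_step fs3 23317 2988 26305 s3u4 s3c5 rfl
theorem gz : countBelow gl 0 = 0 := rfl
theorem gk0 : countBelow (fun k => gl (Nat.add 0 k)) 13118 = 12777 := by decide +kernel
theorem gn0 : countBelow gl 13118 = 12777 := countBelow_step gl 0 13118 13118 0 12777 12777 gz gk0 rfl rfl
theorem gk1 : countBelow (fun k => gl (Nat.add 13118 k)) 13118 = 12234 := by decide +kernel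
theorem gn1 : countBelow gl 26236 = 25011 := countBelow_step gl 13118 13118 26236 12777 12234 25011 gn0 gk1 rfl rfl
theorem gk2 : countBelow (fun k => gl (Nat.add 26236 k)) 69 = 69 := by decide +kernel
theorem gn2 : countBelow gl 26305 = 25080 := countBelow_step gl 26236 69 26305 25011 69 25080 gn1 gk2 rfl rfl

end Cfsg.Agent.Lib.Helper35.J1POrd.U0
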